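import Mathlib

/-!
# Right exact functors on finitely presented modules with prescribed value
-/

universe u v' u'

open CategoryTheory Limits

namespace Groth.Agent.FPExt8

variable {A : Type u} [CommRing A] {B : Type u'} [Category.{v'} B] [Preadditive B] {K : B} (κ : A →+* End K)

/-- Morphisms out of `K` as an `A`-module. -/
@[nolint unusedArguments]
def HomK (_κ : A →+* End K) (b : B) : Type v' := K ⟶ b

noncomputable instance (b : B) : AddCommGroup (HomK κ b) := inferInstanceAs (AddCommGroup (K ⟶ b))

noncomputable instance instModule (b : B) : Module A (HomK κ b) where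
  smul a f := (κ a : K ⟶ K) ≫ (f : K ⟶ b)
  one_smul f := show (κ 1 : K ⟶ K) ≫ (f : K ⟶ b) = f by rw [map_one]; exact Category.id_comp _
  mul_smul a a' f := show (κ (a * a') : K ⟶ K) ≫ (f : K ⟶ b) = (κ a : K ⟶ K) ≫ ((κ a' : K ⟶ K) ≫ f) by
    rw [mul_comm, map_mul]; exact Category.assoc _ _ _
  smul_zero a := show (κ a : K ⟶ K) ≫ (0 : K ⟶ b) = 0 from comp_zero
  smul_add a f g := show (κ a : K ⟶ K) ≫ ((f : K ⟶ b) + g) = _ from Preadditive.comp_add _ _ _ _ _ _
  add_smul a a' f := show (κ (a + a') : K ⟶ K) ≫ (f : K ⟶ b) = _ by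
    rw [map_add]; exact Preadditive.add_comp _ _ _ _ _ _
  zero_smul f := show (κ 0 : K ⟶ K) ≫ (f : K ⟶ b) = 0 by rw [map_zero]; exact zero_comp

/-- Post-composition. -/
noncomputable def post {b b' : B} (h : b ⟶ b') : HomK κ b →ₗ[A] HomK κ b' where
  toFun f := (f : K ⟶ b) ≫ h
  map_add' f g := Preadditive.add_comp _ _ _ (f : K ⟶ b) g h
  map_smul' a f := Category.assoc (κ a : K ⟶ K) (f : K ⟶ b) h

theorem post_id {b : B} : post κ (𝟙 b) = LinearMap.id := LinearMap.ext fun f => Category.comp_id _

theorem post_comp {b b' b'' : B} (h : b ⟶ b') (h' : b' ⟶ b'') : post κ (h ≫ h') = (post κ h').comp (post κ h) :=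
  LinearMap.ext fun f => (Category.assoc _ _ _).symm

theorem post_add {b b' : B} (h h' : b ⟶ b') : post κ (h + h') = post κ h + post κ h' :=
  LinearMap.ext fun f => Preadditive.comp_add _ _ _ (f : K ⟶ b) h h'

/-- An object corepresenting `b ↦ Hom_A(M, Hom(K, b))`. -/
structure Rep (M : Type u) [AddCommGroup M] [Module A M] where
  pt : B
  u : M →ₗ[A] HomK κ pt
  exu : ∀ (b : B) (g : M →ₗ[A] HomK κ b), ∃! h : pt ⟶ b, (post κ h).comp u = g

variable {κ}

theorem nonempty_rep [HasFiniteBiproducts B] [HasCokernels B] (M : Type u) [AddCommGroup M] [Module A M]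
    [Module.FinitePresentation A M] : Nonempty (Rep κ M) := by
  classical
  obtain ⟨n, x, hx⟩ := Module.Finite.exists_fin (R := A) (M := M)
  let f : (Fin n → A) →ₗ[A] M := Fintype.linearCombination A x
  have hf : Function.Surjective f := by
    rw [← LinearMap.range_eq_top, Fintype.range_linearCombination, hx]
  obtain ⟨p, r, hr⟩ := Submodule.fg_iff_exists_fin_generating_family.1 (Module.FinitePresentation.fg_ker f hf)
  let φ : (⨁ fun _ : Fin p => K) ⟶ ⨁ fun _ : Fin n => K :=
    biproduct.desc fun j => ∑ i, (κ (r j i) : K ⟶ K) ≫ biproduct.ι (fun _ : Fin n => K) i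
  let π := cokernel.π φ
  let gen : Fin n → HomK κ (cokernel φ) := fun i => ((biproduct.ι (fun _ : Fin n => K) i ≫ π : K ⟶ cokernel φ))
  let uF : (Fin n → A) →ₗ[A] HomK κ (cokernel φ) := Fintype.linearCombination A gen
  have hker : LinearMap.ker f ≤ LinearMap.ker uF := by
    rw [← hr, Submodule.span_le]
    rintro _ ⟨j, rfl⟩
    show uF (r j) = 0
    show Fintype.linearCombination A gen (r j) = 0
    rw [Fintype.linearCombination_apply]
    have h : biproduct.ι (fun _ : Fin p => K) j ≫ φ ≫ π = 0 := by rw [cokernel.condition, comp_zero]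
    rw [← Category.assoc, biproduct.ι_desc, Preadditive.sum_comp] at h
    refine Eq.trans (Finset.sum_congr rfl fun i _ => ?_) h
    exact (Category.assoc _ _ _).symm
  let u : M →ₗ[A] HomK κ (cokernel φ) :=
    ((LinearMap.ker f).liftQ uF hker).comp (f.quotKerEquivOfSurjective hf).symm.toLinearMap
  have hu : ∀ v, u (f v) = uF v := fun v => by
    have : (f.quotKerEquivOfSurjective hf).symm (f v) = Submodule.Quotient.mk v := by
      rw [LinearEquiv.symm_apply_eq]; rfl
    simp only [u, LinearMap.comp_apply, LinearEquiv.coe_coe, this, Submodule.liftQ_apply]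
  have hsingle : ∀ i, uF (Pi.single i 1) = ((biproduct.ι (fun _ : Fin n => K) i ≫ π : K ⟶ cokernel φ) : HomK κ _) :=
    fun i => (Fintype.linearCombination_apply_single A _ i 1).trans (one_smul A _)
  have hfx : ∀ i, f (Pi.single i 1) = x i := fun i => by simp [f]
  refine ⟨⟨cokernel φ, u, fun b g => ?_⟩⟩
  let gx : Fin n → (K ⟶ b) := fun i => g (x i)
  let d : (⨁ fun _ : Fin n => K) ⟶ b := biproduct.desc gx
  have hdi : ∀ i, biproduct.ι (fun _ : Fin n => K) i ≫ d = gx i := fun i => biproduct.ι_desc gx i
  have hd : φ ≫ d = 0 := by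
    refine biproduct.hom_ext' _ _ fun j => ?_
    rw [comp_zero, ← Category.assoc, biproduct.ι_desc, Preadditive.sum_comp]
    have h0 : g (f (r j)) = 0 := by
      rw [show f (r j) = 0 from LinearMap.mem_ker.1 (hr ▸ Submodule.subset_span ⟨j, rfl⟩), map_zero]
    rw [Fintype.linearCombination_apply, map_sum] at h0
    refine Eq.trans (Finset.sum_congr rfl fun i _ => ?_) h0
    exact (Category.assoc _ _ _).trans ((congrArg ((κ (r j i) : K ⟶ K) ≫ ·) (hdi i)).trans (map_smul g _ _).symm)
  refine ⟨cokernel.desc φ d hd, ?_, fun h hh => ?_⟩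
  · apply LinearMap.ext
    intro m
    obtain ⟨v, rfl⟩ := hf m
    have : ((post κ (cokernel.desc φ d hd)).comp u).comp f = g.comp f := by
      refine LinearMap.pi_ext' fun i => LinearMap.ext_ring ?_
      show post κ (cokernel.desc φ d hd) (u (f (Pi.single i 1))) = g (f (Pi.single i 1))
      rw [hu, hsingle, hfx]
      show (biproduct.ι (fun _ : Fin n => K) i ≫ π) ≫ cokernel.desc φ d hd = (g (x i) : K ⟶ b)
      exact ((Category.assoc _ _ _).trans (congrArg (biproduct.ι (fun _ : Fin n => K) i ≫ ·) (cokernel.π_desc _ _ _))).trans (hdi i)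
    exact LinearMap.congr_fun this v
  · refine coequalizer.hom_ext (biproduct.hom_ext' _ _ fun i => ?_)
    rw [cokernel.π_desc, hdi]
    have := LinearMap.congr_fun hh (f (Pi.single i 1))
    rw [LinearMap.comp_apply, hu, hsingle, hfx] at this
    exact (Category.assoc _ _ _).symm.trans this

namespace Rep

variable {M N P : Type u} [AddCommGroup M] [Module A M] [AddCommGroup N] [Module A N] [AddCommGroup P] [Module A P]
  (R : Rep κ M) (S : Rep κ N) (T : Rep κ P)

/-- The morphism induced by a linear map. -/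
noncomputable def desc {b : B} (g : M →ₗ[A] HomK κ b) : R.pt ⟶ b := (R.exu b g).exists.choose

theorem fac {b : B} (g : M →ₗ[A] HomK κ b) : (post κ (R.desc g)).comp R.u = g := (R.exu b g).exists.choose_spec

theorem hom_ext {b : B} {h h' : R.pt ⟶ b} (e : (post κ h).comp R.u = (post κ h').comp R.u) : h = h' :=
  (R.exu b _).unique e rfl

theorem hom_ext' {b : B} {h h' : R.pt ⟶ b} (e : ∀ m, post κ h (R.u m) = post κ h' (R.u m)) : h = h' :=
  R.hom_ext (LinearMap.ext e)

/-- Functoriality. -/
noncomputable def map (g : M →ₗ[A] N) : R.pt ⟶ S.pt := R.desc (S.u.comp g)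

theorem map_fac (g : M →ₗ[A] N) : (post κ (R.map S g)).comp R.u = S.u.comp g := R.fac _

theorem map_id : R.map R LinearMap.id = 𝟙 _ := R.hom_ext (by rw [map_fac, post_id]; rfl)

theorem map_comp (g : M →ₗ[A] N) (g' : N →ₗ[A] P) : R.map T (g'.comp g) = R.map S g ≫ S.map T g' :=
  R.hom_ext (by rw [map_fac, post_comp, LinearMap.comp_assoc, map_fac, ← LinearMap.comp_assoc,
    ← LinearMap.comp_assoc, map_fac])

theorem map_add (g g' : M →ₗ[A] N) : R.map S (g + g') = R.map S g + R.map S g' :=
  R.hom_ext (by rw [map_fac, post_add, LinearMap.add_comp, map_fac, map_fac, LinearMap.comp_add])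

end Rep

variable (A)

/-- Finitely presented modules. -/
abbrev fp : ObjectProperty (ModuleCat.{u} A) := fun M => Module.FinitePresentation A M

instance : (fp A).IsClosedUnderFiniteProducts :=
  haveI : (fp A).IsClosedUnderBinaryProducts := ⟨by
    rintro X ⟨p⟩
    let Y := p.diag.obj ⟨WalkingPair.left⟩
    let Z := p.diag.obj ⟨WalkingPair.right⟩
    haveI : Module.FinitePresentation A Y := p.prop_diag_obj ⟨WalkingPair.left⟩
    haveI : Module.FinitePresentation A Z := p.prop_diag_obj ⟨WalkingPair.right⟩
    let e : ModuleCat.of A (Y × Z) ≅ X :=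
      IsLimit.conePointUniqueUpToIso (ModuleCat.binaryProductLimitCone Y Z).isLimit
        ((IsLimit.postcomposeHomEquiv (diagramIsoPair p.diag) _).symm p.isLimit)
    exact Module.FinitePresentation.of_equiv e.toLinearEquiv⟩
  haveI : (fp A).ContainsZero := ⟨⟨ModuleCat.of A PUnit, ModuleCat.isZero_of_subsingleton _, (inferInstance : Module.FinitePresentation A PUnit.{u+1})⟩⟩
  haveI : (fp A).IsClosedUnderIsomorphisms := ⟨fun {M N} e hM =>
    haveI : Module.FinitePresentation A M := hM
    Module.FinitePresentation.of_equiv e.toLinearEquiv⟩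
  ObjectProperty.IsClosedUnderFiniteProducts.mk'

variable {A} (κ) [HasFiniteBiproducts B] [HasCokernels B]

/-- A chosen corepresenting object. -/
noncomputable def rep (M : (fp A).FullSubcategory) : Rep κ M.obj :=
  haveI : Module.FinitePresentation A M.obj := M.property
  (nonempty_rep (κ := κ) M.obj).some

/-- The right exact extension. -/
noncomputable def ext : (fp A).FullSubcategory ⥤ B where
  obj M := (rep κ M).pt
  map {M N} f := (rep κ M).map (rep κ N) f.hom.hom
  map_id M := (rep κ M).map_id
  map_comp {M N P} f g := (rep κ M).map_comp (rep κ N) (rep κ P) f.hom.hom g.hom.hom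

instance : (ext κ).Additive where
  map_add {M N f g} := (rep κ M).map_add (rep κ N) f.hom.hom g.hom.hom

/-- The standard cokernel object. -/
noncomputable def cokObj {M N : (fp A).FullSubcategory} (f : M ⟶ N) : (fp A).FullSubcategory :=
  ⟨ModuleCat.of A (N.obj ⧸ LinearMap.range f.hom.hom),
    haveI : Module.FinitePresentation A N.obj := N.property
    haveI : Module.FinitePresentation A M.obj := M.property
    Module.finitePresentation_of_surjective (Submodule.mkQ _) (Submodule.mkQ_surjective _)
      (by rw [Submodule.ker_mkQ, LinearMap.range_eq_map]; exact Module.Finite.fg_top.map _)⟩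

/-- The standard cokernel projection. -/
noncomputable def cokπ {M N : (fp A).FullSubcategory} (f : M ⟶ N) : N ⟶ cokObj f :=
  ObjectProperty.homMk (ModuleCat.ofHom (LinearMap.range f.hom.hom).mkQ)

theorem cok_condition {M N : (fp A).FullSubcategory} (f : M ⟶ N) : f ≫ cokπ f = 0 :=
  ObjectProperty.hom_ext _ (ModuleCat.hom_ext (LinearMap.ext fun m =>
    (Submodule.Quotient.mk_eq_zero _).2 ⟨m, rfl⟩))

/-- It is a cokernel. -/
noncomputable def cokIsColimit {M N : (fp A).FullSubcategory} (f : M ⟶ N) :
    IsColimit (CokernelCofork.ofπ (cokπ f) (cok_condition f)) :=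
  CokernelCofork.IsColimit.ofπ _ _
    (fun g hg => ObjectProperty.homMk (ModuleCat.ofHom ((LinearMap.range f.hom.hom).liftQ g.hom.hom (by
      rintro _ ⟨m, rfl⟩
      exact LinearMap.congr_fun (congrArg (fun t => t.hom.hom) hg) m))))
    (fun g hg => ObjectProperty.hom_ext _ (ModuleCat.hom_ext (LinearMap.ext fun n => rfl)))
    (fun g hg m hm => ObjectProperty.hom_ext _ (ModuleCat.hom_ext (Submodule.linearMap_qext _
      (LinearMap.ext fun n => LinearMap.congr_fun (congrArg (fun t => t.hom.hom) hm) n))))

instance {M N : (fp A).FullSubcategory} (f : M ⟶ N) : PreservesColimit (parallelPair f 0) (ext κ) := by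
  have w : (ext κ).map f ≫ (ext κ).map (cokπ f) = 0 := by rw [← Functor.map_comp, cok_condition, Functor.map_zero]
  have hc : IsColimit (CokernelCofork.ofπ ((ext κ).map (cokπ f)) w) := by
    refine CokernelCofork.IsColimit.ofπ _ _
      (fun {b} g hg => (rep κ (cokObj f)).desc ((LinearMap.range f.hom.hom).liftQ
        ((post κ g).comp (rep κ N).u) ?_)) (fun {b} g hg => ?_) (fun {b} g hg h hh => ?_)
    · rintro _ ⟨m, rfl⟩
      have e : ((post κ g).comp (rep κ N).u).comp f.hom.hom =
          (post κ ((rep κ M).map (rep κ N) f.hom.hom ≫ g)).comp (rep κ M).u := LinearMap.ext fun m =>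
        (congrArg (post κ g) (LinearMap.congr_fun ((rep κ M).map_fac (rep κ N) f.hom.hom) m)).symm.trans
          (LinearMap.congr_fun (post_comp κ ((rep κ M).map (rep κ N) f.hom.hom) g) ((rep κ M).u m)).symm
      refine (LinearMap.congr_fun e m).trans ?_
      rw [show (rep κ M).map (rep κ N) f.hom.hom ≫ g = 0 from hg]
      exact comp_zero
    · refine (rep κ N).hom_ext' fun n => ?_
      refine (LinearMap.congr_fun (post_comp κ ((rep κ N).map (rep κ (cokObj f)) (cokπ f).hom.hom) _) ((rep κ N).u n)).trans ?_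
      refine (congrArg (post κ _) (LinearMap.congr_fun ((rep κ N).map_fac (rep κ (cokObj f)) (cokπ f).hom.hom) n)).trans ?_
      exact LinearMap.congr_fun ((rep κ (cokObj f)).fac _) (Submodule.Quotient.mk n)
    · refine (rep κ (cokObj f)).hom_ext' fun q => ?_
      refine Eq.trans ?_ (LinearMap.congr_fun ((rep κ (cokObj f)).fac _) q).symm
      obtain ⟨n, rfl⟩ := Submodule.Quotient.mk_surjective _ q
      refine Eq.trans (congrArg (post κ h) (LinearMap.congr_fun ((rep κ N).map_fac (rep κ (cokObj f)) (cokπ f).hom.hom) n)).symm ?_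
      refine (LinearMap.congr_fun (post_comp κ ((rep κ N).map (rep κ (cokObj f)) (cokπ f).hom.hom) h) ((rep κ N).u n)).symm.trans ?_
      exact congrArg (fun t => post κ t ((rep κ N).u n)) hh
  exact preservesColimit_of_preserves_colimit_cocone (cokIsColimit f)
    ((CokernelCofork.isColimitMapCoconeEquiv (CokernelCofork.ofπ (cokπ f) (cok_condition f)) (ext κ)).symm hc)

theorem preservesFiniteColimits_ext : PreservesFiniteColimits (ext κ) := by
  haveI : HasCokernels (fp A).FullSubcategory :=
    ⟨fun {M N} f => HasColimit.mk ⟨_, cokIsColimit f⟩⟩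
  haveI : HasFiniteBiproducts (fp A).FullSubcategory := HasFiniteBiproducts.of_hasFiniteProducts
  haveI : HasCoequalizers (fp A).FullSubcategory := Preadditive.hasCoequalizers_of_hasCokernels
  haveI : HasBinaryBiproducts (fp A).FullSubcategory := hasBinaryBiproducts_of_finite_biproducts _
  haveI : HasZeroObject B := hasZeroObject_of_hasFiniteBiproducts B
  haveI : HasZeroObject (fp A).FullSubcategory := hasZeroObject_of_hasFiniteBiproducts _
  exact Functor.preservesFiniteColimits_of_preservesCokernels (ext κ)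

end Groth.Agent.FPExt8
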